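import Cfsg.Agent.H361.Hall.Lin

/-!
# S2223, O1: the group of order `3^{1+2m}` in dimension 3 (helper361)
-/

set_option autoImplicit false

namespace Cfsg.Agent.H361.Hall

open Subgroup Cfsg.Agent.Cit Cfsg.Agent.H125.Hall

section decomp

variable {k : Type*} [Field k] {V : Type*} [AddCommGroup V] [Module k V] {A : Type*} [Group A]
  (ρ : A →* (V →ₗ[k] V))

theorem rmul (g h : A) (v : V) : ρ (g * h) v = ρ g (ρ h v) := by
  rw [map_mul, Module.End.mul_apply]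

theorem rone (v : V) : ρ 1 v = v := by
  rw [map_one, Module.End.one_apply]

theorem rinj (g : A) : Function.Injective (ρ g) := by
  intro v w h
  have h1 : ρ g⁻¹ (ρ g v) = ρ g⁻¹ (ρ g w) := by rw [h]
  rwa [← rmul, ← rmul, inv_mul_cancel, rone, rone] at h1

variable {ρ}

theorem sub_mem_cm {Z : Subgroup A} {z : A} (hz : z ∈ Z) (v : V) : ρ z v - v ∈ cm ρ Z :=
  (le_iSup₂_of_le (f := fun x (_ : x ∈ Z) => mv ρ x) z hz le_rfl) ⟨v, rfl⟩

theorem cm_le {Z : Subgroup A} {W : Submodule k V} (h : ∀ z ∈ Z, ∀ v, ρ z v - v ∈ W) : cm ρ Z ≤ W := by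
  refine iSup₂_le fun z hz => ?_
  rintro _ ⟨v, rfl⟩
  exact h z hz v

theorem cm_inv {Z : Subgroup A} {c : A} (hc : ∀ z ∈ Z, c * z * c⁻¹ ∈ Z) : ∀ v ∈ cm ρ Z, ρ c v ∈ cm ρ Z := by
  have h1 : cm ρ Z ≤ (cm ρ Z).comap (ρ c) := by
    refine cm_le fun z hz v => ?_
    rw [Submodule.mem_comap, map_sub]
    have h2 : ρ c (ρ z v) = ρ (c * z * c⁻¹) (ρ c v) := by
      rw [← rmul, ← rmul]
      congr 2
      group
    rw [h2]
    exact sub_mem_cm (hc z hz) _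
  exact fun v hv => h1 hv

/-- `[V, Z] ∩ C_V(Z) = 0` -/
theorem eq_zero_of_mem_cm {Z : Subgroup A} [Finite Z] (hc : (Nat.card Z : k) ≠ 0) {v : V} (hv : v ∈ cm ρ Z)
    (hf : ∀ z ∈ Z, ρ z v = v) : v = 0 := by
  classical
  have := Fintype.ofFinite Z
  let e : V →ₗ[k] V := ∑ z : Z, ρ (z : A)
  have h1 : cm ρ Z ≤ LinearMap.ker e := by
    refine cm_le fun x hx u => ?_
    rw [LinearMap.mem_ker, map_sub, sub_eq_zero]
    change (∑ z : Z, ρ (z : A)) (ρ x u) = (∑ z : Z, ρ (z : A)) u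
    rw [LinearMap.sum_apply, LinearMap.sum_apply]
    refine Fintype.sum_equiv (Equiv.mulRight ⟨x, hx⟩) _ _ fun z => ?_
    rw [← rmul]
    rfl
  have h2 : e v = 0 := h1 hv
  have h3 : e v = (Nat.card Z : k) • v := by
    change (∑ z : Z, ρ (z : A)) v = _
    rw [LinearMap.sum_apply, Finset.sum_congr rfl (fun (z : Z) _ => hf z z.2), Finset.sum_const, Finset.card_univ,
      Nat.card_eq_fintype_card, Nat.cast_smul_eq_nsmul]
  rw [h3] at h2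
  exact (smul_eq_zero.1 h2).resolve_left hc

/-- `V = [V, Z] + C_V(Z)` -/
theorem exists_decomp {Z : Subgroup A} [Finite Z] (hc : (Nat.card Z : k) ≠ 0) (v : V) :
    ∃ u ∈ cm ρ Z, ∃ w : V, (∀ z ∈ Z, ρ z w = w) ∧ v = u + w := by
  classical
  have := Fintype.ofFinite Z
  refine ⟨(Nat.card Z : k)⁻¹ • ∑ z : Z, (v - ρ (z : A) v), ?_, (Nat.card Z : k)⁻¹ • ∑ z : Z, ρ (z : A) v, ?_, ?_⟩
  · refine Submodule.smul_mem _ _ (Submodule.sum_mem _ fun z _ => ?_)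
    rw [← neg_sub]
    exact Submodule.neg_mem _ (sub_mem_cm z.2 v)
  · intro x hx
    rw [map_smul, map_sum]
    congr 1
    refine Fintype.sum_equiv (Equiv.mulLeft ⟨x, hx⟩) _ _ fun z => ?_
    rw [← rmul]
    rfl
  · rw [← smul_add, ← Finset.sum_add_distrib]
    simp only [sub_add_cancel]
    rw [Finset.sum_const, Finset.card_univ, ← Nat.card_eq_fintype_card, ← Nat.cast_smul_eq_nsmul k, smul_smul,
      inv_mul_cancel₀ hc, one_smul]

end decomp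

section grp

variable {A : Type*} [Group A] {R0 Z0 : Subgroup A}

theorem eq_one_of_sq {z : A} (h3 : z ^ 3 = 1) (h2 : z * z = 1) : z = 1 := by
  rw [pow_succ, pow_two, h2, one_mul] at h3
  exact h3

/-- `u u^y` is fixed by the involution `y` -/
theorem fix_proj (hcomm : ∀ x ∈ R0, ∀ w ∈ R0, x * w * x⁻¹ * w⁻¹ ∈ Z0) (hexp : ∀ z ∈ Z0, z ^ 3 = 1) {y : A}
    (hyy : y * y = 1) (hy : ∀ x ∈ R0, y * x * y⁻¹ ∈ R0) (hyz : ∀ z ∈ Z0, y * z = z * y) {u : A} (hu : u ∈ R0) :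
    y * (u * (y * u * y⁻¹)) = u * (y * u * y⁻¹) * y := by
  have hyi : y⁻¹ = y := inv_eq_of_mul_eq_one_left hyy
  set u' := y * u * y⁻¹ with hu'
  have h1 : y * u' * y⁻¹ = u := by
    rw [hu', hyi]
    calc y * (y * u * y) * y = (y * y) * u * (y * y) := by group
      _ = u := by rw [hyy]; group
  set d := u' * u * u'⁻¹ * u⁻¹ with hd
  have hdZ : d ∈ Z0 := hcomm _ (hy u hu) _ hu
  have h2 : y * (u * u') * y⁻¹ = d * (u * u') := by
    calc y * (u * u') * y⁻¹ = (y * u * y⁻¹) * (y * u' * y⁻¹) := by group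
      _ = u' * u := by rw [h1]
      _ = d * (u * u') := by rw [hd]; group
  have h3 : u * u' = d * (d * (u * u')) := by
    calc u * u' = y * (y * (u * u') * y⁻¹) * y⁻¹ := by
          rw [hyi]
          calc u * u' = (y * y) * (u * u') * (y * y) := by rw [hyy]; group
            _ = y * (y * (u * u') * y) * y := by group
      _ = y * (d * (u * u')) * y⁻¹ := by rw [h2]
      _ = (y * d) * (u * u') * y⁻¹ := by group
      _ = d * (y * (u * u') * y⁻¹) := by rw [hyz d hdZ]; group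
      _ = d * (d * (u * u')) := by rw [h2]
  have h4 : d * d = 1 := by
    have h3' : 1 * (u * u') = d * d * (u * u') := by rw [one_mul, mul_assoc]; exact h3
    exact (mul_right_cancel h3').symm
  have h5 : d = 1 := eq_one_of_sq (hexp d hdZ) h4
  rw [h5, one_mul] at h2
  exact mul_inv_eq_iff_eq_mul.1 h2

/-- `C(y)` and `C(y t)` commute in `R0` -/
theorem comm_fix (hcomm : ∀ x ∈ R0, ∀ w ∈ R0, x * w * x⁻¹ * w⁻¹ ∈ Z0) (hexp : ∀ z ∈ Z0, z ^ 3 = 1)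
    (hcen : ∀ z ∈ Z0, ∀ x ∈ R0, z * x = x * z) {y t : A} (hyz : ∀ z ∈ Z0, y * z = z * y)
    (hneg : ∀ x ∈ R0, t * x * t⁻¹ * x ∈ Z0) {p q : A} (hp : p ∈ R0) (hq : q ∈ R0) (hyp : y * p = p * y)
    (hyq : y * t * q = q * (y * t)) : p * q = q * p := by
  set z := t * q * t⁻¹ * q with hz
  have hzZ : z ∈ Z0 := hneg q hq
  have h1 : t * q * t⁻¹ = z * q⁻¹ := by rw [hz]; group
  have h2 : y * (t * q * t⁻¹) * y⁻¹ = q := by
    calc y * (t * q * t⁻¹) * y⁻¹ = (y * t * q) * (y * t)⁻¹ := by group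
      _ = q := by rw [hyq]; group
  rw [h1] at h2
  have h3 : y * q * y⁻¹ = q⁻¹ * z := by
    have h4 : z * (y * q * y⁻¹)⁻¹ = q := by
      calc z * (y * q * y⁻¹)⁻¹ = (z * y) * q⁻¹ * y⁻¹ := by group
        _ = y * (z * q⁻¹) * y⁻¹ := by rw [← hyz z hzZ]; group
        _ = q := h2
    have h5 : y * q * y⁻¹ = q⁻¹ * z := by
      have h6 : z = q * (y * q * y⁻¹) := by
        nth_rewrite 1 [← h4]
        group
      rw [h6]; group
    exact h5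
  set c := p * q * p⁻¹ * q⁻¹ with hc
  have hcZ : c ∈ Z0 := hcomm p hp q hq
  have h4 : y * c * y⁻¹ = c := by
    rw [hyz c hcZ]; group
  have hyp' : y * p * y⁻¹ = p := by rw [hyp]; group
  have h5 : y * c * y⁻¹ = p * q⁻¹ * p⁻¹ * q := by
    have hzp : z * p⁻¹ = p⁻¹ * z := hcen z hzZ _ (inv_mem hp)
    calc y * c * y⁻¹ = (y * p * y⁻¹) * (y * q * y⁻¹) * (y * p * y⁻¹)⁻¹ * (y * q * y⁻¹)⁻¹ := by rw [hc]; group
      _ = p * (q⁻¹ * z) * p⁻¹ * (q⁻¹ * z)⁻¹ := by rw [hyp', h3]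
      _ = p * q⁻¹ * (z * p⁻¹) * z⁻¹ * q := by group
      _ = p * q⁻¹ * p⁻¹ * q := by rw [hzp]; group
  have h6 : p * q⁻¹ * p⁻¹ * q = c⁻¹ := by
    have h7 : p * q * p⁻¹ = c * q := by rw [hc]; group
    calc p * q⁻¹ * p⁻¹ * q = (p * q * p⁻¹)⁻¹ * q := by group
      _ = q⁻¹ * (c⁻¹ * q) := by rw [h7]; group
      _ = q⁻¹ * (q * c⁻¹) := by rw [hcen _ (inv_mem hcZ) q hq]
      _ = c⁻¹ := by group
  have h7 : c * c = 1 := by
    have h8 : c = c⁻¹ := h4.symm.trans (h5.trans h6)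
    have h9 : c * c = c * c⁻¹ := congrArg (c * ·) h8
    rw [h9, mul_inv_cancel]
  have h8 : c = 1 := eq_one_of_sq (hexp c hcZ) h7
  rw [hc] at h8
  have h9 : p * q * p⁻¹ = q := mul_inv_eq_one.1 h8
  exact mul_inv_eq_iff_eq_mul.1 h9

/-- `u u = z p q`, `p = u u^y`, `q = u u^{yt}` -/
theorem sq_eq (hcomm : ∀ x ∈ R0, ∀ w ∈ R0, x * w * x⁻¹ * w⁻¹ ∈ Z0)
    (hcen : ∀ z ∈ Z0, ∀ x ∈ R0, z * x = x * z) {y t : A} (hyz : ∀ z ∈ Z0, y * z = z * y)
    (hy : ∀ x ∈ R0, y * x * y⁻¹ ∈ R0)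
    (hneg : ∀ x ∈ R0, t * x * t⁻¹ * x ∈ Z0) {u : A} (hu : u ∈ R0) :
    ∃ z ∈ Z0, u * (y * u * y⁻¹) * (u * (y * t * u * (y * t)⁻¹)) = z * (u * u) := by
  set z1 := t * u * t⁻¹ * u with hz1
  have hz1Z : z1 ∈ Z0 := hneg u hu
  set d := (y * u * y⁻¹) * u * (y * u * y⁻¹)⁻¹ * u⁻¹ with hd
  have hdZ : d ∈ Z0 := hcomm _ (hy u hu) _ hu
  refine ⟨z1 * d, mul_mem hz1Z hdZ, ?_⟩
  have h1 : y * t * u * (y * t)⁻¹ = z1 * (y * u * y⁻¹)⁻¹ := by
    calc y * t * u * (y * t)⁻¹ = y * (t * u * t⁻¹ * u) * u⁻¹ * y⁻¹ := by group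
      _ = (y * z1) * u⁻¹ * y⁻¹ := by rw [← hz1]
      _ = z1 * (y * u * y⁻¹)⁻¹ := by rw [hyz z1 hz1Z]; group
  rw [h1]
  have h2 : (y * u * y⁻¹) * u * (y * u * y⁻¹)⁻¹ = d * u := by rw [hd]; group
  have h3 : z1 * u = u * z1 := hcen z1 hz1Z u hu
  have h4 : z1 * (y * u * y⁻¹) = (y * u * y⁻¹) * z1 := hcen z1 hz1Z _ (hy u hu)
  have h5 : d * u = u * d := hcen d hdZ u hu
  calc u * (y * u * y⁻¹) * (u * (z1 * (y * u * y⁻¹)⁻¹))
      = u * (y * u * y⁻¹) * (u * z1) * (y * u * y⁻¹)⁻¹ := by group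
    _ = u * ((y * u * y⁻¹) * z1) * u * (y * u * y⁻¹)⁻¹ := by rw [← h3]; group
    _ = (u * z1) * ((y * u * y⁻¹) * u * (y * u * y⁻¹)⁻¹) := by rw [← h4]; group
    _ = z1 * u * (d * u) := by rw [h2, h3]
    _ = z1 * (u * d) * u := by group
    _ = z1 * (d * u) * u := by rw [h5]
    _ = z1 * d * (u * u) := by group

theorem comm_of_sq {u v : A} (hu : Odd (orderOf u)) (hv : Odd (orderOf v)) (h : u * u * (v * v) = v * v * (u * u)) :
    u * v = v * u := by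
  obtain ⟨i, hi⟩ := hu
  obtain ⟨j, hj⟩ := hv
  have h1 : u = (u * u) ^ (i + 1) := by
    rw [← pow_two, ← pow_mul, show 2 * (i + 1) = (2 * i + 1) + 1 by ring, pow_succ, ← hi, pow_orderOf_eq_one, one_mul]
  have h2 : v = (v * v) ^ (j + 1) := by
    rw [← pow_two, ← pow_mul, show 2 * (j + 1) = (2 * j + 1) + 1 by ring, pow_succ, ← hj, pow_orderOf_eq_one, one_mul]
  have h3 : Commute (u * u) (v * v) := h
  rw [h1, h2]
  exact (h3.pow_pow _ _).eq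

end grp

end Cfsg.Agent.H361.Hall
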