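import Cfsg.Agent.H361.Hall.Core
import Cfsg.Agent.H759.Hall.Frame

/-!
# S2223, O1: the contradiction in dimension 3 (helper361)
-/

set_option autoImplicit false

namespace Cfsg.Agent.H361.Hall

open Subgroup Cfsg.Agent.Cit Cfsg.Agent.H125.Hall

section inv

variable {k : Type*} [Field k] {V : Type*} [AddCommGroup V] [Module k V] {A : Type*} [Group A]
  {ρ : A →* (V →ₗ[k] V)} {t : A}

theorem neg_of_mem (tt : t * t = 1) {v : V} (hv : v ∈ mv ρ t) : ρ t v = -v := by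
  obtain ⟨w, rfl⟩ := H759.Hall.mem_mv.1 hv
  rw [map_sub, ← rmul, tt, rone, neg_sub]

theorem mem_of_neg (two : (2 : k) ≠ 0) {v : V} (hv : ρ t v = -v) : v ∈ mv ρ t := by
  refine H759.Hall.mem_mv.2 ⟨-(2 : k)⁻¹ • v, ?_⟩
  rw [map_smul, hv, neg_smul, neg_smul, smul_neg, neg_neg, sub_neg_eq_add, ← add_smul]
  rw [show ((2 : k)⁻¹ + 2⁻¹) = 1 by rw [← two_mul, mul_inv_cancel₀ two], one_smul]

theorem sub_mem_mv (v : V) : ρ t v - v ∈ mv ρ t := H759.Hall.mem_mv.2 ⟨v, rfl⟩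

theorem split (two : (2 : k) ≠ 0) (tt : t * t = 1) {X : Submodule k V} (hX : ∀ v ∈ X, ρ t v ∈ X) {v : V}
    (hv : v ∈ X) : ∃ u ∈ mv ρ t, ∃ l ∈ X, ρ t l = l ∧ v = u + l := by
  refine ⟨(2 : k)⁻¹ • (v - ρ t v), ?_, (2 : k)⁻¹ • (v + ρ t v), ?_, ?_, ?_⟩
  · refine Submodule.smul_mem _ _ ?_
    rw [← neg_sub]
    exact Submodule.neg_mem _ (sub_mem_mv v)
  · exact Submodule.smul_mem _ _ (Submodule.add_mem _ hv (hX v hv))
  · rw [map_smul, map_add, ← rmul, tt, rone, add_comm]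
  · rw [← smul_add, sub_add_add_cancel, ← two_smul k v, smul_smul, inv_mul_cancel₀ two, one_smul]

/-- `X ∩ C_V(t)` -/
def Lt (ρ : A →* (V →ₗ[k] V)) (t : A) (X : Submodule k V) : Submodule k V := X ⊓ LinearMap.ker (ρ t - 1)

theorem mem_Lt {X : Submodule k V} {v : V} : v ∈ Lt ρ t X ↔ v ∈ X ∧ ρ t v = v := by
  unfold Lt
  rw [Submodule.mem_inf, LinearMap.mem_ker, LinearMap.sub_apply, Module.End.one_apply, sub_eq_zero]

theorem finrank_Lt [FiniteDimensional k V] (two : (2 : k) ≠ 0) (tt : t * t = 1) {X : Submodule k V}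
    (hX : ∀ v ∈ X, ρ t v ∈ X) (UX : mv ρ t ≤ X) :
    Module.finrank k X = Module.finrank k (mv ρ t) + Module.finrank k (Lt ρ t X) := by
  have h1 : mv ρ t ⊔ Lt ρ t X = X := by
    refine le_antisymm (sup_le UX inf_le_left) fun v hv => ?_
    obtain ⟨u, hu, l, hl, hl', rfl⟩ := split two tt hX hv
    exact Submodule.add_mem_sup hu (mem_Lt.2 ⟨hl, hl'⟩)
  have h2 : mv ρ t ⊓ Lt ρ t X = ⊥ := by
    rw [eq_bot_iff]
    rintro v ⟨hu, hl⟩
    have h3 := neg_of_mem tt hu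
    rw [(mem_Lt.1 hl).2] at h3
    have h4 : (2 : k) • v = 0 := by
      rw [two_smul]
      nth_rewrite 1 [h3]
      exact neg_add_cancel v
    exact (Submodule.mem_bot k).2 ((smul_eq_zero.1 h4).resolve_left two)
  have h3 := Submodule.finrank_sup_add_finrank_inf_eq (mv ρ t) (Lt ρ t X)
  rw [h1, h2, finrank_bot, add_zero] at h3
  exact h3

/-- a map which preserves a line is scalar on it -/
theorem scalar_line [FiniteDimensional k V] {L : Submodule k V} (hL : Module.finrank k L = 1) (g : V →ₗ[k] V)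
    (hg : ∀ v ∈ L, g v ∈ L) : ∃ c : k, ∀ v ∈ L, g v = c • v := by
  obtain ⟨e, he⟩ := finrank_le_one_iff.1 hL.le
  obtain ⟨c, hc⟩ := he ⟨g e, hg e e.2⟩
  refine ⟨c, fun v hv => ?_⟩
  obtain ⟨a, ha⟩ := he ⟨v, hv⟩
  have ha' : a • (e : V) = v := congrArg Subtype.val ha
  have hc' : c • (e : V) = g e := congrArg Subtype.val hc
  rw [← ha', map_smul, ← hc', smul_smul, smul_smul, mul_comm]

end inv

variable {k : Type*} [Field k] {V : Type*} [AddCommGroup V] [Module k V]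
  {A : Type*} [Group A]

/-- the data -/
structure Cor (ρ : A →* (V →ₗ[k] V)) (t : A) (R0 Z0 : Subgroup A) : Prop where
  inj : Function.Injective ρ
  two : (2 : k) ≠ 0
  card : (Nat.card Z0 : k) ≠ 0
  tt : t * t = 1
  Zle : Z0 ≤ R0
  inv : ∀ c : A, c * t = t * c → ∀ x ∈ R0, c * x * c⁻¹ ∈ R0
  invZ : ∀ c : A, c * t = t * c → ∀ x ∈ Z0, c * x * c⁻¹ ∈ Z0
  center : ∀ x ∈ R0, (∀ w ∈ R0, x * w = w * x) ↔ x ∈ Z0
  zt : ∀ z ∈ Z0, z * t = t * z
  neg : ∀ x ∈ R0, t * x * t⁻¹ * x ∈ Z0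
  comm : ∀ x ∈ R0, ∀ w ∈ R0, x * w * x⁻¹ * w⁻¹ ∈ Z0
  exp : ∀ z ∈ Z0, z ^ 3 = 1
  nab : ∃ x ∈ R0, x ∉ Z0
  odd : ∀ x ∈ R0, Odd (orderOf x)
  quat : ∃ a b : A, a * a = t ∧ b * b = t ∧ a * b = t * (b * a) ∧ (∀ z ∈ Z0, a * z = z * a) ∧
    ∀ z ∈ Z0, b * z = z * b
  dX : Module.finrank k (cm ρ Z0) = 3
  dU : Module.finrank k (mv ρ t) = 2
  UX : mv ρ t ≤ cm ρ Z0

namespace Cor

variable {ρ : A →* (V →ₗ[k] V)} {t : A} {R0 Z0 : Subgroup A}

theorem zx (h : Cor ρ t R0 Z0) {z : A} (hz : z ∈ Z0) {x : A} (hx : x ∈ R0) : z * x = x * z :=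
  (h.center z (h.Zle hz)).2 hz x hx

theorem xX (h : Cor ρ t R0 Z0) {x : A} (hx : x ∈ R0) : ∀ v ∈ cm ρ Z0, ρ x v ∈ cm ρ Z0 := by
  refine cm_inv fun z hz => ?_
  rw [← h.zx hz hx, mul_inv_cancel_right]
  exact hz

theorem tX (h : Cor ρ t R0 Z0) : ∀ v ∈ cm ρ Z0, ρ t v ∈ cm ρ Z0 := cm_inv (h.invZ t rfl)

theorem cX (h : Cor ρ t R0 Z0) {c : A} (hc : c * t = t * c) : ∀ v ∈ cm ρ Z0, ρ c v ∈ cm ρ Z0 :=
  cm_inv (h.invZ c hc)

variable [Finite A]

/-- an element which normalises `Z0` and moves vectors inside of `[V, Z0]` is trivial on `C_V(Z0)` -/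
theorem triv (h : Cor ρ t R0 Z0) {c : A} (hc : ∀ z ∈ Z0, c⁻¹ * z * c ∈ Z0) (hm : mv ρ c ≤ cm ρ Z0) {w : V}
    (hw : ∀ z ∈ Z0, ρ z w = w) : ρ c w = w := by
  refine sub_eq_zero.1 (eq_zero_of_mem_cm h.card (hm (sub_mem_mv w)) fun z hz => ?_)
  rw [map_sub, hw z hz]
  have h1 : ρ z (ρ c w) = ρ c (ρ (c⁻¹ * z * c) w) := by
    rw [← rmul, ← rmul]
    congr 2
    group
  rw [h1, hw _ (hc z hz)]

theorem t_triv (h : Cor ρ t R0 Z0) {w : V} (hw : ∀ z ∈ Z0, ρ z w = w) : ρ t w = w := by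
  refine h.triv (fun z hz => ?_) h.UX hw
  rw [mul_assoc, h.zt z hz, inv_mul_cancel_left]
  exact hz

theorem x_triv (h : Cor ρ t R0 Z0) {x : A} (hx : x ∈ R0) {w : V} (hw : ∀ z ∈ Z0, ρ z w = w) : ρ x w = w := by
  have h1 : ∀ z ∈ Z0, ρ z (ρ x w) = ρ x w := fun z hz => by
    rw [← rmul, h.zx hz hx, rmul, hw z hz]
  have h2 : ρ x (ρ x w) = w := by
    have h3 : ρ (t * x * t⁻¹ * x) w = w := hw _ (h.neg x hx)
    have hti : t⁻¹ = t := inv_eq_of_mul_eq_one_left h.tt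
    rw [rmul, rmul, rmul, hti, h.t_triv h1] at h3
    have h4 : ∀ z ∈ Z0, ρ z (ρ x (ρ x w)) = ρ x (ρ x w) := fun z hz => by
      rw [← rmul, h.zx hz hx, rmul, h1 z hz]
    rwa [h.t_triv h4] at h3
  have h3 : ∀ i : ℕ, ρ (x ^ (2 * i)) w = w := by
    intro i
    induction i with
    | zero => rw [mul_zero, pow_zero, rone]
    | succ i ih => rw [mul_add, mul_one, pow_add, pow_two, rmul, rmul, h2, ih]
  obtain ⟨i, hi⟩ := h.odd x hx
  have h4 : ρ (x ^ (2 * i + 1)) w = w := by rw [← hi, pow_orderOf_eq_one, rone]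
  rw [pow_succ', rmul, h3] at h4
  exact h4

/-- elements which agree on `X` and on `C_V(Z0)` are equal -/
theorem ext (h : Cor ρ t R0 Z0) {g g' : A} (h1 : ∀ v ∈ cm ρ Z0, ρ g v = ρ g' v)
    (h2 : ∀ w, (∀ z ∈ Z0, ρ z w = w) → ρ g w = ρ g' w) : g = g' := by
  apply h.inj
  ext v
  obtain ⟨u, hu, w, hw, rfl⟩ := exists_decomp h.card v
  rw [map_add, map_add, h1 u hu, h2 w hw]

variable [IsAlgClosed k] [FiniteDimensional k V]

theorem dL (h : Cor ρ t R0 Z0) : Module.finrank k (Lt ρ t (cm ρ Z0)) = 1 := by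
  have h1 := finrank_Lt h.two h.tt h.tX h.UX
  rw [h.dX, h.dU] at h1
  omega

theorem scalU (h : Cor ρ t R0 Z0) {z : A} (hz : z ∈ Z0) : ∃ c : k, ∀ v ∈ mv ρ t, ρ z v = c • v := by
  obtain ⟨a, b, ha, hb, hab, hza, hzb⟩ := h.quat
  have hω : IsPrimitiveRoot (-1 : k) 2 := by
    refine IsPrimitiveRoot.mk_of_lt _ two_pos (by norm_num) fun l hl hl2 h1 => ?_
    have : l = 1 := by omega
    rw [this, pow_one] at h1
    apply h.two
    linear_combination -h1
  have hat : a * t = t * a := by rw [← ha, mul_assoc]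
  have hbt : b * t = t * b := by rw [← hb, mul_assoc]
  have hU : ∀ c : A, c * t = t * c → ∀ v ∈ mv ρ t, ρ c v ∈ mv ρ t := by
    intro c hc v hv
    refine mem_of_neg h.two ?_
    rw [← rmul, ← hc, rmul, neg_of_mem h.tt hv, map_neg]
  refine scalar_of_comm (m := 2) two_pos hω (mv ρ t) h.dU (ρ a) (ρ b) (ρ z) (rinj ρ a) (rinj ρ b)
    (hU a hat) (hU b hbt) (hU z (h.zt z hz)) ?_ ?_ ?_
  · intro v hv
    rw [← rmul, hab, rmul, rmul, neg_of_mem h.tt (hU b hbt _ (hU a hat _ hv)), neg_smul, one_smul]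
  · intro v _
    rw [← rmul, ← hza z hz, rmul]
  · intro v _
    rw [← rmul, ← hzb z hz, rmul]

theorem scalL (h : Cor ρ t R0 Z0) {z : A} (hz : z ∈ Z0) : ∃ c : k, ∀ v ∈ Lt ρ t (cm ρ Z0), ρ z v = c • v := by
  refine scalar_line h.dL (ρ z) fun v hv => ?_
  obtain ⟨h1, h2⟩ := mem_Lt.1 hv
  refine mem_Lt.2 ⟨h.xX (h.Zle hz) v h1, ?_⟩
  rw [← rmul, ← h.zt z hz, rmul, h2]

omit [Finite A] [IsAlgClosed k] [FiniteDimensional k V] in
theorem not_comm (h : Cor ρ t R0 Z0) (hc : ∀ x ∈ R0, t * x = x * t) : False := by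
  obtain ⟨x, hx, hxZ⟩ := h.nab
  apply hxZ
  rw [← h.center x hx]
  intro w hw
  have h1 : x * x ∈ Z0 := by
    have := h.neg x hx
    rwa [hc x hx, mul_inv_cancel_right] at this
  obtain ⟨i, hi⟩ := h.odd x hx
  have h2 : x = (x * x) ^ (i + 1) := by
    rw [← pow_two, ← pow_mul, show 2 * (i + 1) = (2 * i + 1) + 1 by ring, pow_succ, ← hi, pow_orderOf_eq_one, one_mul]
  rw [h2]
  exact h.zx (pow_mem h1 _) hw

theorem scal (h : Cor ρ t R0 Z0) {z : A} (hz : z ∈ Z0) : ∃ c : k, ∀ v ∈ cm ρ Z0, ρ z v = c • v := by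
  obtain ⟨c, hc⟩ := h.scalU hz
  obtain ⟨d, hd⟩ := h.scalL hz
  by_cases hcd : c = d
  · refine ⟨c, fun v hv => ?_⟩
    obtain ⟨u, hu, l, hl, hl', rfl⟩ := split h.two h.tt h.tX hv
    rw [map_add, hc u hu, hd l (mem_Lt.2 ⟨hl, hl'⟩), smul_add, hcd]
  · exfalso
    refine h.not_comm fun x hx => ?_
    refine h.ext (fun v hv => ?_) fun w hw => ?_
    · obtain ⟨u, hu, l, hl, hl', rfl⟩ := split h.two h.tt h.tX hv
      have h1 : ρ t (ρ x u) = - ρ x u := by
        -- `x u ∈ U`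
        obtain ⟨u', hu', l', hl1, hl2, he⟩ := split h.two h.tt h.tX (h.xX hx u (h.UX hu))
        have h3 : ρ z (ρ x u) = c • ρ x u := by rw [← rmul, h.zx hz hx, rmul, hc u hu, map_smul]
        rw [he, map_add, hc u' hu', hd l' (mem_Lt.2 ⟨hl1, hl2⟩), smul_add, add_right_inj] at h3
        have h4 : (d - c) • l' = 0 := by rw [sub_smul, h3, sub_self]
        have h5 : l' = 0 := (smul_eq_zero.1 h4).resolve_left fun h6 => hcd (sub_eq_zero.1 h6).symm
        rw [he, h5, add_zero]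
        exact neg_of_mem h.tt hu'
      have h2 : ρ t (ρ x l) = ρ x l := by
        obtain ⟨u', hu', l', hl1, hl2, he⟩ := split h.two h.tt h.tX (h.xX hx l hl)
        have h3 : ρ z (ρ x l) = d • ρ x l := by
          rw [← rmul, h.zx hz hx, rmul, hd l (mem_Lt.2 ⟨hl, hl'⟩), map_smul]
        rw [he, map_add, hc u' hu', hd l' (mem_Lt.2 ⟨hl1, hl2⟩), smul_add, add_left_inj] at h3
        have h4 : (c - d) • u' = 0 := by rw [sub_smul, h3, sub_self]
        have h5 : u' = 0 := (smul_eq_zero.1 h4).resolve_left fun h6 => hcd (sub_eq_zero.1 h6)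
        rw [he, h5, zero_add]
        exact hl2
      rw [rmul, rmul, map_add, map_add, h1, h2, map_add, neg_of_mem h.tt hu, hl', map_add, map_neg]
    · rw [rmul, rmul, h.x_triv hx hw, h.t_triv hw, h.x_triv hx hw]

/-- an element which commutes with two non-commuting elements of `R0` is scalar on `X` -/
theorem scal_of_comm (h : Cor ρ t R0 Z0) {x w : A} (hx : x ∈ R0) (hw : w ∈ R0) (hne : x * w ≠ w * x) {s : A}
    (hs : s * t = t * s) (hsx : s * x = x * s) (hsw : s * w = w * s) : ∃ c : k, ∀ v ∈ cm ρ Z0, ρ s v = c • v := by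
  set c := x * w * x⁻¹ * w⁻¹ with hc
  have hcZ : c ∈ Z0 := h.comm x hx w hw
  obtain ⟨ω, hω⟩ := h.scal hcZ
  have hX : ∃ v ∈ cm ρ Z0, v ≠ 0 := by
    by_contra hcon
    push Not at hcon
    have h1 : cm ρ Z0 = ⊥ := by
      rw [eq_bot_iff]
      intro v hv
      exact (Submodule.mem_bot k).2 (hcon v hv)
    have h2 := h.dX
    rw [h1, finrank_bot] at h2
    omega
  obtain ⟨v0, hv0, hv0'⟩ := hX
  have h3 : ω ^ 3 = 1 := by
    have h4 : ρ (c ^ 3) v0 = ω ^ 3 • v0 := by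
      rw [pow_succ, pow_two, rmul, rmul, hω v0 hv0, map_smul, map_smul, hω v0 hv0, map_smul, hω v0 hv0, smul_smul,
        smul_smul]
      congr 1
      ring
    rw [h.exp c hcZ, rone] at h4
    have h5 : (1 - ω ^ 3) • v0 = 0 := by rw [sub_smul, one_smul, ← h4, sub_self]
    exact (sub_eq_zero.1 ((smul_eq_zero.1 h5).resolve_right hv0')).symm
  have h1 : ω ≠ 1 := by
    intro h4
    apply hne
    have h5 : c = 1 := by
      refine h.ext (fun v hv => ?_) fun w hw => ?_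
      · rw [hω v hv, h4, one_smul, rone]
      · rw [hw c hcZ, rone]
    rw [hc] at h5
    exact mul_inv_eq_iff_eq_mul.1 (mul_inv_eq_one.1 h5)
  have hp : IsPrimitiveRoot ω 3 := by
    refine IsPrimitiveRoot.mk_of_lt _ (by norm_num) h3 fun l hl hl2 h4 => ?_
    have h5 : l = 1 ∨ l = 2 := by omega
    rcases h5 with rfl | rfl
    · exact h1 (by rw [pow_one] at h4; exact h4)
    · apply h1
      linear_combination h3 - ω * h4
  refine scalar_of_comm (m := 3) (by norm_num) hp (cm ρ Z0) h.dX (ρ x) (ρ w) (ρ s) (rinj ρ x) (rinj ρ w)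
    (h.xX hx) (h.xX hw) (h.cX hs) ?_ ?_ ?_
  · intro v hv
    have h4 : x * w = c * (w * x) := by rw [hc]; group
    rw [← rmul, h4, rmul ρ c (w * x), rmul ρ w x, hω _ (h.xX hw _ (h.xX hx v hv))]
  · intro v _
    rw [← rmul, hsx, rmul]
  · intro v _
    rw [← rmul, hsw, rmul]

/-- **The contradiction.** -/
theorem false_of (h : Cor ρ t R0 Z0) {y : A} (yy : y * y = 1) (yt : y * t = t * y)
    (dy : Module.finrank k (mv ρ y) = 2) (yX : mv ρ y ≤ cm ρ Z0)
    (yL : ∀ v ∈ cm ρ Z0, ρ t v = v → ρ y v = -v) : False := by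
  have hyi : y⁻¹ = y := inv_eq_of_mul_eq_one_left yy
  -- `y` is trivial on `C_V(Z0)`
  have hyt : ∀ w, (∀ z ∈ Z0, ρ z w = w) → ρ y w = w := fun w hw => by
    refine h.triv (fun z hz => ?_) yX hw
    have := h.invZ y yt z hz
    rw [hyi] at this
    rw [hyi]
    exact this
  -- `y` centralises `Z0`
  have hyz : ∀ z ∈ Z0, y * z = z * y := by
    intro z hz
    obtain ⟨c, hc⟩ := h.scal hz
    refine h.ext (fun v hv => ?_) fun w hw => ?_
    · rw [rmul, rmul, hc v hv, map_smul, hc _ (h.cX yt v hv)]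
    · rw [rmul, rmul, hyt w hw, hw z hz, hyt w hw]
  have hL : ∃ l ∈ cm ρ Z0, ρ t l = l ∧ l ≠ 0 := by
    by_contra hcon
    push Not at hcon
    have h1 : Lt ρ t (cm ρ Z0) = ⊥ := by
      rw [eq_bot_iff]
      intro v hv
      obtain ⟨h2, h3⟩ := mem_Lt.1 hv
      exact (Submodule.mem_bot k).2 (hcon v h2 h3)
    have h2 := h.dL
    rw [h1, finrank_bot] at h2
    omega
  obtain ⟨l, hl, hl', hl0⟩ := hL
  have hc1 : ∀ c : k, -l = c • l → c = -1 := by
    intro c hc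
    have h5 : (c + 1) • l = 0 := by rw [add_smul, one_smul, ← hc, neg_add_cancel]
    have h6 := (smul_eq_zero.1 h5).resolve_right hl0
    linear_combination h6
  -- non-commuting elements
  obtain ⟨u, hu, huZ⟩ := h.nab
  have hex : ∃ u' ∈ R0, u * u' ≠ u' * u := by
    by_contra hcon
    push Not at hcon
    exact huZ ((h.center u hu).1 hcon)
  obtain ⟨u', hu', hne⟩ := hex
  have hytt : y * t * (y * t) = 1 := by
    calc y * t * (y * t) = y * (t * y) * t := by group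
      _ = (y * y) * (t * t) := by rw [← yt]; group
      _ = 1 := by rw [yy, h.tt, one_mul]
  have hyt' : y * t * t = t * (y * t) := by
    calc y * t * t = t * y * t := by rw [yt]
      _ = t * (y * t) := mul_assoc _ _ _
  have hytz : ∀ z ∈ Z0, y * t * z = z * (y * t) := by
    intro z hz
    rw [mul_assoc, ← h.zt z hz, ← mul_assoc, hyz z hz, mul_assoc]
  have fixp : ∀ x ∈ R0, y * (x * (y * x * y⁻¹)) = x * (y * x * y⁻¹) * y := fun x hx =>
    fix_proj h.comm h.exp yy (h.inv y yt) hyz hx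
  have fixq : ∀ x ∈ R0, y * t * (x * (y * t * x * (y * t)⁻¹)) = x * (y * t * x * (y * t)⁻¹) * (y * t) := fun x hx =>
    fix_proj h.comm h.exp hytt (h.inv (y * t) hyt') hytz hx
  have memp : ∀ x ∈ R0, x * (y * x * y⁻¹) ∈ R0 := fun x hx => mul_mem hx (h.inv y yt x hx)
  have memq : ∀ x ∈ R0, x * (y * t * x * (y * t)⁻¹) ∈ R0 := fun x hx => mul_mem hx (h.inv (y * t) hyt' x hx)
  have hpq : ∀ x ∈ R0, ∀ x' ∈ R0, x * (y * x * y⁻¹) * (x' * (y * t * x' * (y * t)⁻¹)) =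
      x' * (y * t * x' * (y * t)⁻¹) * (x * (y * x * y⁻¹)) := fun x hx x' hx' =>
    comm_fix h.comm h.exp (fun z hz x hx => h.zx hz hx) hyz h.neg (memp x hx) (memq x' hx') (fixp x hx) (fixq x' hx')
  have key : (u * (y * u * y⁻¹)) * (u' * (y * u' * y⁻¹)) ≠ (u' * (y * u' * y⁻¹)) * (u * (y * u * y⁻¹)) ∨
      (u * (y * t * u * (y * t)⁻¹)) * (u' * (y * t * u' * (y * t)⁻¹)) ≠
        (u' * (y * t * u' * (y * t)⁻¹)) * (u * (y * t * u * (y * t)⁻¹)) := by
    by_contra hcon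
    push Not at hcon
    obtain ⟨hp, hq⟩ := hcon
    apply hne
    apply comm_of_sq (h.odd u hu) (h.odd u' hu')
    obtain ⟨z, hz, hz'⟩ := sq_eq h.comm (fun z hz x hx => h.zx hz hx) hyz (h.inv y yt) h.neg hu
    obtain ⟨z', hz1, hz1'⟩ := sq_eq h.comm (fun z hz x hx => h.zx hz hx) hyz (h.inv y yt) h.neg hu'
    have c1 : Commute (u * (y * u * y⁻¹)) (u' * (y * u' * y⁻¹)) := hp
    have c2 : Commute (u * (y * t * u * (y * t)⁻¹)) (u' * (y * t * u' * (y * t)⁻¹)) := hq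
    have c3 : Commute (u * (y * u * y⁻¹)) (u' * (y * t * u' * (y * t)⁻¹)) := hpq u hu u' hu'
    have c4 : Commute (u * (y * t * u * (y * t)⁻¹)) (u' * (y * u' * y⁻¹)) := (hpq u' hu' u hu).symm
    have c5 := (c1.mul_right c3).mul_left (c4.mul_right c2)
    rw [hz', hz1'] at c5
    -- remove the central elements
    have d1 : Commute (u * u) z' := (h.zx hz1 (mul_mem hu hu)).symm
    have d2 : Commute z (z' * (u' * u')) := h.zx hz (mul_mem (h.Zle hz1) (mul_mem hu' hu'))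
    have c6 : Commute (u * u) (z' * (u' * u')) := by
      have := (d2.inv_left).mul_left c5
      rwa [inv_mul_cancel_left] at this
    have c7 : Commute (u * u) (u' * u') := by
      have := (d1.inv_right).mul_right c6
      rwa [inv_mul_cancel_left] at this
    exact c7
  rcases key with hne' | hne'
  · -- `y` is scalar
    obtain ⟨c, hc⟩ := h.scal_of_comm (memp u hu) (memp u' hu') hne' yt (fixp u hu) (fixp u' hu')
    have h1 := hc l hl
    rw [yL l hl hl'] at h1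
    have h2 := hc1 c h1
    have h3 : cm ρ Z0 ≤ mv ρ y := by
      intro v hv
      refine mem_of_neg h.two ?_
      rw [hc v hv, h2, neg_smul, one_smul]
    have h4 := Submodule.finrank_mono h3
    rw [h.dX, dy] at h4
    omega
  · obtain ⟨c, hc⟩ := h.scal_of_comm (memq u hu) (memq u' hu') hne' hyt' (fixq u hu) (fixq u' hu')
    have h1 := hc l hl
    rw [rmul, hl', yL l hl hl'] at h1
    have h2 := hc1 c h1
    have h3 : ∀ v ∈ mv ρ t, ρ y v = v := by
      intro v hv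
      have h4 := hc v (h.UX hv)
      rw [rmul, neg_of_mem h.tt hv, map_neg, h2, neg_smul, one_smul, neg_inj] at h4
      exact h4
    have h4 : mv ρ y ≤ Lt ρ t (cm ρ Z0) := by
      intro v hv
      obtain ⟨w, rfl⟩ := H759.Hall.mem_mv.1 hv
      obtain ⟨x, hx, w, hw, rfl⟩ := exists_decomp h.card w
      obtain ⟨a, ha, b, hb, hb', rfl⟩ := split h.two h.tt h.tX hx
      have h5 : ρ y (a + b + w) - (a + b + w) = -(2 : k) • b := by
        rw [map_add, map_add, h3 a ha, yL b hb hb', hyt w hw, neg_smul, two_smul]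
        abel
      rw [h5]
      exact Submodule.smul_mem _ _ (mem_Lt.2 ⟨hb, hb'⟩)
    have h5 := Submodule.finrank_mono h4
    rw [h.dL, dy] at h5
    omega

end Cor

end Cfsg.Agent.H361.Hall
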