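import Cfsg.Agent.H125.Hall.Defs

/-!
# S2223, O1: linear algebra (helper361)

* `scalar_of_comm` : `f g = ω g f` on `X`, `ω` a primitive `m`-th root of unity, `dim X = m`: a map commuting with `f` and
  `g` is scalar on `X`;
* `quat_pair` : `a, b ∈ Q` with `a² = b² = t` and `a b = t b a` in a generalized quaternion group;
* decomposition `V = [V, Z] ⊕ C_V(Z)`.
-/

set_option autoImplicit false

namespace Cfsg.Agent.H361.Hall

open Subgroup Cfsg.Agent.Cit Cfsg.Agent.H125.Hall

section scalar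

variable {k : Type*} [Field k] [IsAlgClosed k] {V : Type*} [AddCommGroup V] [Module k V]

/-- the commutant of a Heisenberg pair -/
theorem scalar_aux [FiniteDimensional k V] {m : ℕ} (hm : 0 < m) {ω : k} (hω : IsPrimitiveRoot ω m)
    (hd : Module.finrank k V = m) (f g s : V →ₗ[k] V) (hf : Function.Injective f) (hg : Function.Injective g)
    (hfg : ∀ v, f (g v) = ω • g (f v)) (hsf : ∀ v, s (f v) = f (s v)) (hsg : ∀ v, s (g v) = g (s v)) :
    ∃ c : k, ∀ v, s v = c • v := by
  have hnt : Nontrivial V := by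
    apply Module.nontrivial_of_finrank_pos (R := k)
    rw [hd]; exact hm
  obtain ⟨μ, hμ⟩ := Module.End.exists_eigenvalue (K := k) f
  obtain ⟨v, hv⟩ := hμ.exists_hasEigenvector
  have hv0 : v ≠ 0 := hv.2
  have hfv : f v = μ • v := Module.End.mem_eigenspace_iff.1 hv.1
  have hμ0 : μ ≠ 0 := by
    rintro rfl
    rw [zero_smul] at hfv
    exact hv0 (hf (by rw [hfv, map_zero]))
  -- the eigenvectors
  have hgj : ∀ j : ℕ, f ((g ^ j) v) = (ω ^ j * μ) • (g ^ j) v := by
    intro j
    induction j with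
    | zero => simpa using hfv
    | succ j ih =>
      rw [pow_succ', Module.End.mul_apply, hfg, ih, map_smul, smul_smul, pow_succ']
      ring_nf
  have hgne : ∀ j : ℕ, (g ^ j) v ≠ 0 := by
    intro j
    induction j with
    | zero => simpa using hv0
    | succ j ih =>
      rw [pow_succ', Module.End.mul_apply]
      intro h
      exact ih (hg (by rw [h, map_zero]))
  let b : Fin m → V := fun j => (g ^ (j : ℕ)) v
  let ev : Fin m → k := fun j => ω ^ (j : ℕ) * μ
  have hev : Function.Injective ev := by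
    intro i j hij
    have h1 : ω ^ (i : ℕ) = ω ^ (j : ℕ) := mul_right_cancel₀ hμ0 hij
    exact Fin.ext (hω.pow_inj i.2 j.2 h1)
  have hli : LinearIndependent k b := by
    refine Module.End.eigenvectors_linearIndependent' f ev hev b fun j => ?_
    exact ⟨Module.End.mem_eigenspace_iff.2 (hgj j), hgne j⟩
  have hcard : Fintype.card (Fin m) = Module.finrank k V := by rw [Fintype.card_fin, hd]
  have : Nonempty (Fin m) := ⟨⟨0, hm⟩⟩
  let B := basisOfLinearIndependentOfCardEqFinrank hli hcard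
  have hB : ∀ j, B j = b j := fun j => by
    rw [coe_basisOfLinearIndependentOfCardEqFinrank]
  -- `s v = c v`
  have hsv : ∃ c : k, s v = c • v := by
    have h1 : f (s v) = μ • s v := by rw [← hsf, hfv, map_smul]
    have h2 : s v = ∑ j, B.repr (s v) j • B j := (B.sum_repr (s v)).symm
    have h3 : ∀ j, (ev j - μ) * B.repr (s v) j = 0 := by
      have h4 : ∑ j, ((ev j - μ) * B.repr (s v) j) • B j = 0 := by
        have h5 : f (s v) = ∑ j, (ev j * B.repr (s v) j) • B j := by
          conv_lhs => rw [h2]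
          rw [map_sum]
          refine Finset.sum_congr rfl fun j _ => ?_
          rw [map_smul, hB]
          change _ • f ((g ^ (j : ℕ)) v) = _
          rw [hgj, smul_smul, mul_comm]
        have h6 : μ • s v = ∑ j, (μ * B.repr (s v) j) • B j := by
          conv_lhs => rw [h2]
          rw [Finset.smul_sum]
          exact Finset.sum_congr rfl fun j _ => by rw [smul_smul]
        simp_rw [sub_mul, sub_smul]
        rw [Finset.sum_sub_distrib, ← h5, ← h6, h1, sub_self]
      exact fun j => (Fintype.linearIndependent_iff.1 B.linearIndependent _ h4 j)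
    refine ⟨B.repr (s v) ⟨0, hm⟩, ?_⟩
    conv_lhs => rw [h2]
    rw [Finset.sum_eq_single ⟨0, hm⟩]
    · rw [hB]
      change _ • (g ^ 0) v = _
      rw [pow_zero, Module.End.one_apply]
    · intro j _ hj
      have h4 : ev j - μ ≠ 0 := by
        intro h5
        apply hj
        apply hev
        rw [sub_eq_zero.1 h5]
        change μ = ω ^ 0 * μ
        rw [pow_zero, one_mul]
      rcases mul_eq_zero.1 (h3 j) with h5 | h5
      · exact absurd h5 h4
      · rw [h5, zero_smul]
    · intro h; exact absurd (Finset.mem_univ _) h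
  obtain ⟨c, hc⟩ := hsv
  refine ⟨c, fun w => ?_⟩
  have hsb : ∀ j : ℕ, s ((g ^ j) v) = c • (g ^ j) v := by
    intro j
    induction j with
    | zero => simpa using hc
    | succ j ih =>
      rw [pow_succ', Module.End.mul_apply, hsg, ih, map_smul]
  have h1 : s = c • LinearMap.id := by
    refine B.ext fun j => ?_
    rw [hB]
    change s ((g ^ (j : ℕ)) v) = c • (g ^ (j : ℕ)) v
    exact hsb j
  rw [h1]
  rfl

/-- the commutant of a Heisenberg pair on a submodule -/
theorem scalar_of_comm {m : ℕ} (hm : 0 < m) {ω : k} (hω : IsPrimitiveRoot ω m) (X : Submodule k V)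
    (hd : Module.finrank k X = m) (f g s : V →ₗ[k] V) (hf : Function.Injective f) (hg : Function.Injective g)
    (hfX : ∀ v ∈ X, f v ∈ X) (hgX : ∀ v ∈ X, g v ∈ X) (hsX : ∀ v ∈ X, s v ∈ X)
    (hfg : ∀ v ∈ X, f (g v) = ω • g (f v)) (hsf : ∀ v ∈ X, s (f v) = f (s v)) (hsg : ∀ v ∈ X, s (g v) = g (s v)) :
    ∃ c : k, ∀ v ∈ X, s v = c • v := by
  have : FiniteDimensional k X := Module.finite_of_finrank_pos (by rw [hd]; exact hm)
  obtain ⟨c, hc⟩ := scalar_aux hm hω hd (f.restrict hfX) (g.restrict hgX) (s.restrict hsX)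
    (fun v w h => Subtype.ext (hf (congrArg Subtype.val h))) (fun v w h => Subtype.ext (hg (congrArg Subtype.val h)))
    (fun v => Subtype.ext (hfg v v.2)) (fun v => Subtype.ext (hsf v v.2)) (fun v => Subtype.ext (hsg v v.2))
  exact ⟨c, fun v hv => congrArg Subtype.val (hc ⟨v, hv⟩)⟩

end scalar

section quat

variable {G : Type*} [Group G]

/-- two elements of order 4 with commutator `t` -/
theorem quat_pair {Q : Subgroup G} (h : AutQuat.IsQ Q) {t : G} (ht : t ∈ Q) (ho : orderOf t = 2) :
    ∃ a ∈ Q, ∃ b ∈ Q, a * a = t ∧ b * b = t ∧ a * b = t * (b * a) := by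
  obtain ⟨n, ⟨e⟩⟩ := h
  have hne : NeZero (2 ^ (n + 1)) := ⟨pow_ne_zero _ (by norm_num)⟩
  have h1 : e ⟨t, ht⟩ = QuaternionGroup.a ((2 ^ (n + 1) : ℕ) : ZMod (2 * 2 ^ (n + 1))) := by
    apply AutQuat.eq_of_orderOf_two
    rw [MulEquiv.orderOf_eq, Subgroup.orderOf_mk, ho]
  have h2 : t = (e.symm (QuaternionGroup.a ((2 ^ (n + 1) : ℕ) : ZMod (2 * 2 ^ (n + 1)))) : G) := by
    rw [← h1, MulEquiv.symm_apply_apply]
  have key2 : (2 ^ n : ZMod (2 * 2 ^ (n + 1))) + 2 ^ n = 2 ^ (n + 1) := by ring
  refine ⟨_, (e.symm (QuaternionGroup.a ((2 ^ n : ℕ) : ZMod (2 * 2 ^ (n + 1))))).2, _,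
    (e.symm (QuaternionGroup.xa 0)).2, ?_, ?_, ?_⟩
  · rw [h2, ← Subgroup.coe_mul, ← map_mul, QuaternionGroup.a_mul_a]
    congr 3
    push_cast
    rw [key2]
  · rw [h2, ← Subgroup.coe_mul, ← map_mul, QuaternionGroup.xa_mul_xa]
    simp
  · rw [h2, ← Subgroup.coe_mul, ← Subgroup.coe_mul, ← Subgroup.coe_mul, ← map_mul, ← map_mul, ← map_mul,
      QuaternionGroup.a_mul_xa, QuaternionGroup.xa_mul_a, QuaternionGroup.a_mul_xa]
    congr 3
    push_cast
    ring

end quat

end Cfsg.Agent.H361.Hall
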