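import Cfsg.Agent.H361.Hall.Fin

/-!
# S2223, O1: odd cores for frames (helper361)

`odd_comm_of` : `Fr.odd_comm` from Lemma R (`LemR`).
-/

set_option autoImplicit false

namespace Cfsg.Agent.H361.Hall

open Subgroup Cfsg.Agent.Cit Cfsg.Agent.H125.Hall

variable {k : Type*} [Field k] [IsAlgClosed k] {V : Type*} [AddCommGroup V] [Module k V] [FiniteDimensional k V]
  {A : Type*} [Group A] [Finite A]

/-- what we need of Lemma R -/
def LemR {k : Type*} [Field k] {V : Type*} [AddCommGroup V] [Module k V] {A : Type*} [Group A]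
    (ρ : A →* (V →ₗ[k] V)) : Prop :=
  ∀ r : ℕ, r.Prime → r ≠ 2 → ∀ R : Subgroup A, IsPGroup r R → (Nat.card R : k) ≠ 0 → ∀ t : A, orderOf t = 2 →
    (∀ c : A, c * t = t * c → ∀ x ∈ R, c * x * c⁻¹ ∈ R) → ∀ a : A, a * a = t → Reg ρ a →
    (¬ ∀ x ∈ R, t * x = x * t) →
    ∃ R0 Z0 : Subgroup A, R0 ≤ R ∧ Z0 ≤ R0 ∧ (∀ c : A, c * t = t * c → ∀ x ∈ R0, c * x * c⁻¹ ∈ R0) ∧
      (∀ c : A, c * t = t * c → ∀ x ∈ Z0, c * x * c⁻¹ ∈ Z0) ∧
      (∀ x ∈ R0, (∀ y ∈ R0, x * y = y * x) ↔ x ∈ Z0) ∧ (∀ z ∈ Z0, z * t = t * z) ∧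
      (∀ x ∈ R0, t * x * t⁻¹ * x ∈ Z0) ∧ ⁅R0, R0⁆ = Z0 ∧ (∀ z ∈ Z0, z ^ 3 = 1) ∧ (∃ x ∈ R0, x ∉ Z0) ∧
      (∀ b, b * b = t → Reg ρ b → ∀ z ∈ Z0, b * z = z * b) ∧ cm ρ Z0 ≠ ⊥ ∧
      3 * Module.finrank k ↥(cm ρ Z0 ⊓ mv ρ t) = 2 * Module.finrank k ↥(cm ρ Z0)

omit [IsAlgClosed k] [FiniteDimensional k V] [Finite A] in
theorem reg_of_Kt {ρ : A →* (V →ₗ[k] V)} {t a : A} (tt : t * t = 1) (ha : a ∈ Kt ρ t) (haa : a * a = t) :
    Reg ρ a := by
  intro v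
  have h1 : ρ t (ρ t v + v) = ρ t v + v := by
    rw [map_add, ← rmul, tt, rone, add_comm]
  have h2 := ha.2 _ h1
  rw [map_add] at h2
  rw [← rmul ρ a a v, haa]
  exact h2

theorem odd_comm_of {ρ : A →* (V →ₗ[k] V)} (hl : LemR ρ) {S : Sylow 2 A} {ι : Type*} {t : ι → A}
    {Q : ι → Subgroup A} {V0 : Submodule k V} (h : Fr ρ S t Q V0)
    (hrefl : V0 ≠ ⊥ → ∀ i, ∃ y ∈ (S : Subgroup A), y * t i = t i * y ∧
      y * y = 1 ∧ Module.finrank k (mv ρ y) = 2 ∧ V0 ≤ mv ρ y ∧ mv ρ y ≤ mv ρ (t i) ⊔ V0)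
    (hc : (Nat.card A : k) ≠ 0) {r : ℕ} (hr : r.Prime) (hr2 : r ≠ 2) (R : Subgroup A) (hR : R.Normal)
    (hRr : IsPGroup r R) : ∀ i, ∀ x ∈ R, t i * x = x * t i := by
  intro i
  by_contra hnc
  have hcard : ∀ H : Subgroup A, (Nat.card H : k) ≠ 0 := by
    intro H h0
    obtain ⟨m, hm⟩ := Subgroup.card_subgroup_dvd_card H
    exact hc (by rw [hm, Nat.cast_mul, h0, zero_mul])
  have tt : t i * t i = 1 := by rw [← pow_two, ← h.ord i, pow_orderOf_eq_one]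
  have hreg : ∀ a ∈ Q i, a * a = t i → Reg ρ a := fun a ha haa => reg_of_Kt tt (h.QK i ha) haa
  obtain ⟨a, ha, b, hb, haa, hbb, hab⟩ := quat_pair (h.isQ i) (h.mem i) (h.ord i)
  obtain ⟨R0, Z0, hR0, hZ0, hinv, hinvZ, hcen, hzt, hneg, hcomm, hexp, hnab, hbz, hX0, hdim⟩ :=
    hl r hr hr2 R hRr (hcard R) (t i) (h.ord i) (fun c _ x hx => hR.conj_mem x hx c) a haa (hreg a ha haa) hnc
  -- the dimensions
  have hd1 : Module.finrank k ↥(cm ρ Z0 ⊓ mv ρ (t i)) ≤ 2 := by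
    rw [← h.dim i]
    exact Submodule.finrank_mono inf_le_right
  have hd0 : Module.finrank k ↥(cm ρ Z0) ≠ 0 := by
    intro h0
    exact hX0 (Submodule.finrank_eq_zero.1 h0)
  have hdX : Module.finrank k ↥(cm ρ Z0) = 3 := by omega
  have hdU : Module.finrank k ↥(cm ρ Z0 ⊓ mv ρ (t i)) = 2 := by omega
  have hUX : mv ρ (t i) ≤ cm ρ Z0 := by
    have h1 : cm ρ Z0 ⊓ mv ρ (t i) = mv ρ (t i) :=
      Submodule.eq_of_le_of_finrank_eq inf_le_right (by rw [hdU, h.dim i])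
    rw [← h1]
    exact inf_le_left
  have hodd : ∀ x ∈ R0, Odd (orderOf x) := by
    intro x hx
    obtain ⟨n, hn⟩ := hRr ⟨x, hR0 hx⟩
    have h1 : x ^ r ^ n = 1 := congrArg Subtype.val hn
    have h2 : Odd (r ^ n) := (hr.odd_of_ne_two hr2).pow
    exact Odd.of_dvd_nat h2 (orderOf_dvd_of_pow_eq_one h1)
  have hC : Cor ρ (t i) R0 Z0 :=
    { inj := h.inj
      two := h.two
      card := hcard Z0
      tt := tt
      Zle := hZ0
      inv := hinv
      invZ := hinvZ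
      center := hcen
      zt := hzt
      neg := hneg
      comm := fun x hx w hw => by
        rw [← hcomm]
        exact Subgroup.commutator_mem_commutator hx hw
      exp := hexp
      nab := hnab
      odd := hodd
      quat := ⟨a, b, haa, hbb, hab, hbz a haa (hreg a ha haa), hbz b hbb (hreg b hb hbb)⟩
      dX := hdX
      dU := h.dim i
      UX := hUX }
  -- the line
  have hLV : Lt ρ (t i) (cm ρ Z0) ≤ V0 := by
    intro l hl
    rw [h.V0_eq]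
    intro j
    by_cases hij : i = j
    · rw [← hij]
      exact (mem_Lt.1 hl).2
    obtain ⟨a', ha', b', hb', -, -, hab'⟩ := quat_pair (h.isQ j) (h.mem j) (h.ord j)
    have hL : ∀ c ∈ Q j, ∀ v ∈ Lt ρ (t i) (cm ρ Z0), ρ c v ∈ Lt ρ (t i) (cm ρ Z0) := by
      intro c hcQ v hv
      obtain ⟨h1, h2⟩ := mem_Lt.1 hv
      have h3 : c * t i = t i * c := (h.comm i j hij _ (h.mem i) c hcQ).symm
      refine mem_Lt.2 ⟨hC.cX h3 v h1, ?_⟩
      rw [← rmul, ← h3, rmul, h2]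
    obtain ⟨α, hα⟩ := scalar_line hC.dL (ρ a') (hL a' ha')
    obtain ⟨β, hβ⟩ := scalar_line hC.dL (ρ b') (hL b' hb')
    obtain ⟨τ, hτ⟩ := scalar_line hC.dL (ρ (t j)) (hL (t j) (h.mem j))
    have h1 : ρ (a' * b') l = ρ (t j * (b' * a')) l := by rw [hab']
    rw [rmul, rmul, rmul ρ b' a', hα _ (hL b' hb' l hl), hβ l hl, hτ _ (hL b' hb' _ (hL a' ha' l hl)),
      hβ _ (hL a' ha' l hl), hα l hl] at h1
    by_cases hl0 : l = 0
    · rw [hl0, map_zero]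
    have hα0 : α ≠ 0 := by
      rintro rfl
      have h2 := hα l hl
      rw [zero_smul] at h2
      exact hl0 (rinj ρ a' (by rw [h2, map_zero]))
    have hβ0 : β ≠ 0 := by
      rintro rfl
      have h2 := hβ l hl
      rw [zero_smul] at h2
      exact hl0 (rinj ρ b' (by rw [h2, map_zero]))
    have h2 : (α * β * (τ - 1)) • l = 0 := by
      rw [smul_smul, smul_smul, smul_smul] at h1
      rw [show α * β * (τ - 1) = τ * (β * α) - α * β by ring, sub_smul, h1]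
      rw [show τ * (β * α) = τ * β * α by ring, sub_self]
    have h3 : τ = 1 := by
      rcases smul_eq_zero.1 h2 with h4 | h4
      · rcases mul_eq_zero.1 h4 with h5 | h5
        · rcases mul_eq_zero.1 h5 with h6 | h6
          · exact absurd h6 hα0
          · exact absurd h6 hβ0
        · exact sub_eq_zero.1 h5
      · exact absurd h4 hl0
    rw [hτ l hl, h3, one_smul]
  have hLe : Lt ρ (t i) (cm ρ Z0) = V0 := by
    refine Submodule.eq_of_le_of_finrank_le hLV ?_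
    rw [hC.dL]
    exact h.dim0
  have hV0 : V0 ≠ ⊥ := by
    intro h0
    have h1 := hC.dL
    rw [hLe, h0, finrank_bot] at h1
    omega
  obtain ⟨y, -, yt, yy, dy, hVy, hyU⟩ := hrefl hV0 i
  refine hC.false_of yy yt dy (hyU.trans (sup_le hUX ?_)) ?_
  · rw [← hLe]
    exact inf_le_left
  · intro v hv hv'
    have h1 : v ∈ V0 := by
      rw [← hLe]
      exact mem_Lt.2 ⟨hv, hv'⟩
    exact neg_of_mem yy (hVy h1)

end Cfsg.Agent.H361.Hall
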